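import Groth.Agent.AVThetaLib.RankKL
import Groth.Agent.AVAmpleLib.MulDegree
import Mathlib.LinearAlgebra.FreeModule.PID
import Mathlib.LinearAlgebra.Matrix.ToLin

/-!
Degrees of endomorphisms of powers of an abelian variety given by integer matrices.
-/

set_option autoImplicit false
set_option maxHeartbeats 1000000
set_option linter.style.haveILetI false

noncomputable section

universe u

open CategoryTheory CategoryTheory.Limits MonoidalCategory CartesianMonoidalCategory MonObj AlgebraicGeometry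

namespace MatDegLib

/-- Degrees multiply when the inner one is constant. -/
theorem finrank_comp {X W S : Scheme.{u}} (f : X ⟶ W) (u : W ⟶ S) [IsFinite f] [Flat f] [IsFinite u] [Flat u]
    {d : ℕ} (hd : ∀ w, f.finrank w = d) (s : S) : (f ≫ u).finrank s = d * u.finrank s := by
  let i := S.fromSpecResidueField s
  let p : ↥(Spec (S.residueField s)) := IsLocalRing.closedPoint (S.residueField s)
  have hp : i p = s := S.fromSpecResidueField_apply s p
  let c := pullback.snd u i
  let g := pullback.snd f (pullback.fst u i)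
  haveI : IsFinite c := MorphismProperty.pullback_snd _ _ (inferInstanceAs (IsFinite u))
  haveI : Flat c := MorphismProperty.pullback_snd _ _ (inferInstanceAs (Flat u))
  haveI : IsFinite g := MorphismProperty.pullback_snd _ _ (inferInstanceAs (IsFinite f))
  haveI : Flat g := MorphismProperty.pullback_snd _ _ (inferInstanceAs (Flat f))
  haveI : IsFinite (f ≫ u) := inferInstance
  have hsq : IsPullback (pullback.fst f (pullback.fst u i)) (g ≫ c) (f ≫ u) i :=
    (IsPullback.of_hasPullback f (pullback.fst u i)).paste_vert (IsPullback.of_hasPullback u i)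
  have hg : ∀ w, g.finrank w = d := fun w => by
    rw [Scheme.Hom.finrank_of_isPullback _ _ _ _ (IsPullback.of_hasPullback f (pullback.fst u i)) w]
    exact hd _
  have h1 := Scheme.Hom.finrank_of_isPullback _ _ _ _ hsq p
  have h2 := Scheme.Hom.finrank_of_isPullback _ _ _ _ (IsPullback.of_hasPullback u i) p
  rw [hp] at h1 h2
  rw [← h1, ← h2]
  let c' : pullback u i ⟶ Spec (CommRingCat.of (S.residueField s)) := c
  haveI : IsFinite c' := inferInstanceAs (IsFinite c)
  exact AVThetaLib.finrank_comp_finite (k := S.residueField s) g c' hg p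

/-- Finite flat of constant degree `d`. -/
def Deg {X W : Scheme.{u}} (f : X ⟶ W) (d : ℕ) : Prop :=
  ∃ (_ : IsFinite f) (_ : Flat f), ∀ w, f.finrank w = d

theorem Deg.comp {X W S : Scheme.{u}} {f : X ⟶ W} {u : W ⟶ S} {a b : ℕ} (hf : Deg f a) (hu : Deg u b) :
    Deg (f ≫ u) (a * b) := by
  obtain ⟨_, _, hf⟩ := hf
  obtain ⟨_, _, hu⟩ := hu
  exact ⟨inferInstance, inferInstance, fun w => by rw [finrank_comp f u hf, hu]⟩

variable {k : Type u} [Field k] {X : Over (Spec (CommRingCat.of k))} [GrpObj X] [IsCommMonObj X] {r : ℕ}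

local notation "P" => (∏ᶜ fun _ : Fin r => X)

/-- The endomorphism of `X ^ r` given by an integer matrix. -/
def mat (α : Matrix (Fin r) (Fin r) ℤ) : P ⟶ P :=
  letI : CommGroup (P ⟶ X) := Hom.commGroup
  Pi.lift (fun i => ∏ j : Fin r, (Pi.π (fun _ : Fin r => X) j) ^ (α i j))

theorem mat_π (α : Matrix (Fin r) (Fin r) ℤ) (i : Fin r) :
    letI : CommGroup (P ⟶ X) := Hom.commGroup
    mat (X := X) α ≫ Pi.π _ i = ∏ j : Fin r, (Pi.π (fun _ : Fin r => X) j) ^ (α i j) :=
  Pi.lift_π _ _

theorem mat_comp (α β : Matrix (Fin r) (Fin r) ℤ) : mat (X := X) β ≫ mat α = mat (α * β) := by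
  letI : CommGroup (P ⟶ X) := Hom.commGroup
  refine Pi.hom_ext _ _ fun i => ?_
  rw [Category.assoc, mat_π, mat_π]
  let φ : (P ⟶ X) →* (P ⟶ X) := MonoidHom.mk' (fun a => mat β ≫ a) fun a b => MonObj.comp_mul _ a b
  show φ _ = _
  rw [map_prod]
  simp_rw [map_zpow]
  have h : ∀ j, φ (Pi.π (fun _ : Fin r => X) j) = ∏ l, (Pi.π (fun _ : Fin r => X) l) ^ (β j l) := fun j => mat_π β j
  simp_rw [h, ← Finset.prod_zpow, ← zpow_mul]
  rw [Finset.prod_comm]
  refine Finset.prod_congr rfl fun l _ => ?_
  rw [Matrix.mul_apply]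
  have hz : ∀ (x : P ⟶ X) (c : Fin r → ℤ) (t : Finset (Fin r)), ∏ j ∈ t, x ^ c j = x ^ ∑ j ∈ t, c j := by
    intro x c t
    induction t using Finset.induction_on with
    | empty => simp
    | insert j t hj ih => rw [Finset.prod_insert hj, Finset.sum_insert hj, ih, zpow_add]
  rw [hz]
  simp_rw [mul_comm (β _ l)]

theorem mat_π_diag (a : Fin r → ℤ) (i : Fin r) :
    mat (X := X) (Matrix.diagonal a) ≫ Pi.π _ i = (Pi.π (fun _ : Fin r => X) i) ^ a i := by
  letI : CommGroup (P ⟶ X) := Hom.commGroup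
  rw [mat_π, Finset.prod_eq_single i]
  · rw [Matrix.diagonal_apply_eq]
  · intro j _ hj
    rw [Matrix.diagonal_apply_ne _ (Ne.symm hj), zpow_zero]
  · simp

theorem mat_one : mat (X := X) (1 : Matrix (Fin r) (Fin r) ℤ) = 𝟙 P := by
  refine Pi.hom_ext _ _ fun i => ?_
  rw [← Matrix.diagonal_one, mat_π_diag, zpow_one, Category.id_comp]

theorem deg_of_isUnit_det (α : Matrix (Fin r) (Fin r) ℤ) (h : IsUnit α.det) : Deg (mat (X := X) α).left 1 := by
  haveI : IsIso (mat (X := X) α) := ⟨mat α⁻¹, by rw [mat_comp, Matrix.nonsing_inv_mul _ h, mat_one],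
    by rw [mat_comp, Matrix.mul_nonsing_inv _ h, mat_one]⟩
  haveI : IsIso (mat (X := X) α).left := inferInstanceAs (IsIso ((Over.forget _).map (mat α)))
  refine ⟨inferInstance, inferInstance, fun w => ?_⟩
  have h1 := (Scheme.Hom.isIso_iff_finrank_eq (mat (X := X) α).left).1
  exact congrFun (h1 inferInstance) w

variable [IsProper X.hom] [GeometricallyIntegral X.hom]

omit [IsProper X.hom] [GeometricallyIntegral X.hom] in
theorem isPullback_single (i : Fin r) (n : ℤ) :
    IsPullback (Pi.π (fun _ : Fin r => X) i) (mat (Matrix.diagonal (Function.update (1 : Fin r → ℤ) i n)))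
      (𝟙 X ^ n) (Pi.π (fun _ : Fin r => X) i) := by
  classical
  have hi : mat (Matrix.diagonal (Function.update (1 : Fin r → ℤ) i n)) ≫ Pi.π (fun _ : Fin r => X) i =
      Pi.π (fun _ : Fin r => X) i ≫ (𝟙 X ^ n) := by
    rw [mat_π_diag, Function.update_self, GrpObj.comp_zpow, Category.comp_id]
  have hj : ∀ j, j ≠ i → mat (Matrix.diagonal (Function.update (1 : Fin r → ℤ) i n)) ≫ Pi.π (fun _ : Fin r => X) j =
      Pi.π (fun _ : Fin r => X) j := fun j h => by
    rw [mat_π_diag, Function.update_of_ne h, Pi.one_apply, zpow_one]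
  refine ⟨⟨hi.symm⟩, ⟨PullbackCone.IsLimit.mk _ (fun s => Pi.lift (Function.update (fun j => s.snd ≫ Pi.π (fun _ : Fin r => X) j) i s.fst))
    (fun s => by rw [Pi.lift_π, Function.update_self]) (fun s => ?_) (fun s m h1 h2 => ?_)⟩⟩
  · refine Pi.hom_ext _ _ fun j => ?_
    rw [Category.assoc]
    rcases eq_or_ne j i with rfl | h
    · rw [hi, Pi.lift_π_assoc, Function.update_self]
      exact s.condition
    · rw [hj j h, Pi.lift_π, Function.update_of_ne h]
  · refine Pi.hom_ext _ _ fun j => ?_
    rcases eq_or_ne j i with rfl | h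
    · rw [Pi.lift_π, Function.update_self]; exact h1
    · rw [Pi.lift_π, Function.update_of_ne h, ← h2, Category.assoc, hj j h]

theorem deg_single (i : Fin r) {n : ℤ} (hn : n ≠ 0) {g : ℕ} (hg : topologicalKrullDim X.left = (g : ℕ)) :
    Deg (mat (X := X) (Matrix.diagonal (Function.update (1 : Fin r → ℤ) i n))).left (n.natAbs ^ (2 * g)) := by
  haveI := AVAmpleLib.isFinite_zpow X hn
  haveI := AVAmpleLib.flat_zpow X hn
  have hsq : IsPullback (Pi.π (fun _ : Fin r => X) i).left
      (mat (Matrix.diagonal (Function.update (1 : Fin r → ℤ) i n))).left (𝟙 X ^ n).left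
      (Pi.π (fun _ : Fin r => X) i).left := (isPullback_single (X := X) i n).map (Over.forget _)
  haveI h1 : IsFinite (mat (X := X) (Matrix.diagonal (Function.update (1 : Fin r → ℤ) i n))).left :=
    MorphismProperty.of_isPullback hsq (show IsFinite (𝟙 X ^ n).left from inferInstance)
  haveI h2 : Flat (mat (X := X) (Matrix.diagonal (Function.update (1 : Fin r → ℤ) i n))).left :=
    MorphismProperty.of_isPullback hsq (show Flat (𝟙 X ^ n).left from inferInstance)
  exact ⟨h1, h2, fun w => (Scheme.Hom.finrank_of_isPullback _ _ _ _ hsq w).trans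
    (AVAmpleLib.finrank_zpow X hn hg _)⟩

theorem deg_diagonal (a : Fin r → ℤ) (ha : ∀ i, a i ≠ 0) {g : ℕ} (hg : topologicalKrullDim X.left = (g : ℕ)) :
    Deg (mat (X := X) (Matrix.diagonal a)).left (∏ i, (a i).natAbs ^ (2 * g)) := by
  classical
  suffices h : ∀ s : Finset (Fin r), Deg (mat (X := X) (Matrix.diagonal fun i => if i ∈ s then a i else 1)).left
      (∏ i ∈ s, (a i).natAbs ^ (2 * g)) by simpa using h Finset.univ
  intro s
  induction s using Finset.induction_on with
  | empty => simpa using deg_of_isUnit_det (X := X) (1 : Matrix (Fin r) (Fin r) ℤ) (by simp)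
  | insert i s hi ih =>
    have e : (Matrix.diagonal fun j => if j ∈ insert i s then a j else 1) =
        (Matrix.diagonal fun j => if j ∈ s then a j else 1) *
          Matrix.diagonal (Function.update (1 : Fin r → ℤ) i (a i)) := by
      rw [Matrix.diagonal_mul_diagonal]
      refine congrArg _ (funext fun j => ?_)
      rcases eq_or_ne j i with rfl | h
      · simp [hi]
      · simp [Function.update_of_ne h, h]
    rw [Finset.prod_insert hi, e, ← mat_comp, Over.comp_left]
    exact (deg_single i (ha i) hg).comp ih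

omit [IsCommMonObj X] [GrpObj X] [IsProper X.hom] [GeometricallyIntegral X.hom] in
/-- Smith normal form of a nonsingular integer matrix. -/
theorem exists_smith (α : Matrix (Fin r) (Fin r) ℤ) (hα : α.det ≠ 0) :
    ∃ (U V : Matrix (Fin r) (Fin r) ℤ) (a : Fin r → ℤ), IsUnit U.det ∧ IsUnit V.det ∧ (∀ i, a i ≠ 0) ∧
      α = U * Matrix.diagonal a * V ∧ ∏ i, (a i).natAbs = α.det.natAbs := by
  classical
  let b := Pi.basisFun ℤ (Fin r)
  let f : (Fin r → ℤ) →ₗ[ℤ] (Fin r → ℤ) := Matrix.toLin' α
  have hinj : Function.Injective f := by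
    have h2 : ∀ v, α.mulVec v = 0 → v = 0 := by
      intro v hv
      by_contra hv'
      exact hα (Matrix.exists_mulVec_eq_zero_iff.1 ⟨v, hv', hv⟩)
    exact (injective_iff_map_eq_zero f).2 fun v hv => h2 v hv
  have hrk : Module.finrank ℤ (LinearMap.range f) = Module.finrank ℤ (Fin r → ℤ) :=
    LinearMap.finrank_range_of_inj hinj
  let a := Submodule.smithNormalFormCoeffs b hrk
  let bT := Submodule.smithNormalFormTopBasis b hrk
  let bR := Submodule.smithNormalFormBotBasis b hrk
  have ha : ∀ i, a i ≠ 0 := Submodule.smithNormalFormCoeffs_ne_zero b hrk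
  let g : (Fin r → ℤ) ≃ₗ[ℤ] LinearMap.range f := LinearEquiv.ofInjective f hinj
  have hf : f = (LinearMap.range f).subtype ∘ₗ (g : (Fin r → ℤ) →ₗ[ℤ] LinearMap.range f) := LinearMap.ext fun x => rfl
  have hdiag : LinearMap.toMatrix bR bT (LinearMap.range f).subtype = Matrix.diagonal a := by
    ext i j
    rw [LinearMap.toMatrix_apply, Submodule.subtype_apply, Submodule.smithNormalFormBotBasis_def, map_smul,
      Module.Basis.repr_self, Finsupp.smul_single, smul_eq_mul, _root_.mul_one, Matrix.diagonal_apply, Finsupp.single_apply]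
    by_cases hij : i = j
    · subst hij; simp [a]
    · simp [hij, Ne.symm hij]
  have hP : IsUnit (LinearMap.toMatrix bT b LinearMap.id).det :=
    IsUnit.of_mul_eq_one (LinearMap.toMatrix b bT LinearMap.id).det (by
      rw [← Matrix.det_mul, ← LinearMap.toMatrix_comp b bT b, LinearMap.id_comp, LinearMap.toMatrix_id, Matrix.det_one])
  have hG : IsUnit (LinearMap.toMatrix b bR (g : (Fin r → ℤ) →ₗ[ℤ] LinearMap.range f)).det :=
    g.isUnit_det b bR
  have key : α = LinearMap.toMatrix bT b LinearMap.id * Matrix.diagonal a *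
      LinearMap.toMatrix b bR (g : (Fin r → ℤ) →ₗ[ℤ] LinearMap.range f) := by
    rw [← hdiag, ← LinearMap.toMatrix_comp, ← LinearMap.toMatrix_comp, LinearMap.id_comp, ← hf]
    show α = LinearMap.toMatrix (Pi.basisFun ℤ (Fin r)) (Pi.basisFun ℤ (Fin r)) (Matrix.toLin' α)
    rw [LinearMap.toMatrix_eq_toMatrix', LinearMap.toMatrix'_toLin']
  refine ⟨_, _, a, hP, hG, ha, key, ?_⟩
  conv_rhs => rw [key, Matrix.det_mul, Matrix.det_mul, Matrix.det_diagonal, Int.natAbs_mul, Int.natAbs_mul,
    Int.isUnit_iff_natAbs_eq.1 hP, Int.isUnit_iff_natAbs_eq.1 hG, _root_.one_mul, _root_.mul_one]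
  exact (map_prod Int.natAbsHom a Finset.univ).symm

theorem deg_mat (α : Matrix (Fin r) (Fin r) ℤ) (hα : α.det ≠ 0) {g : ℕ}
    (hg : topologicalKrullDim X.left = (g : ℕ)) : Deg (mat (X := X) α).left (α.det.natAbs ^ (2 * g)) := by
  obtain ⟨U, V, a, hU, hV, ha, e, he⟩ := exists_smith α hα
  rw [← he, ← Finset.prod_pow, e, ← mat_comp, ← mat_comp, Over.comp_left, Over.comp_left]
  simpa using (deg_of_isUnit_det V hV).comp ((deg_diagonal a ha hg).comp (deg_of_isUnit_det U hU))

end MatDegLib

end
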